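import Groth.Prelude.Def_HTop
import Groth.Prelude.Def_SGA1
import Mathlib.AlgebraicGeometry.ValuativeCriterion
import Mathlib.AlgebraicGeometry.Morphisms.Flat
import Mathlib.AlgebraicGeometry.Morphisms.UniversallyOpen

/-!
# Valuation-ring lifting and V coverings

Points criterion for `HTop.HasValLift`, standard V coverings (flat, proper surjective, open covers, base
change, composition) and V coverings (`exists_standard_over`, `isVCover_bind`, `isVCover_of_qc`).
-/

set_option autoImplicit false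
set_option backward.isDefEq.respectTransparency.types false

universe w w' w'' u

open CategoryTheory CategoryTheory.Limits AlgebraicGeometry

namespace Groth.Agent.VCov

variable {T X Y Z : Scheme.{u}}

section Points

lemma specializes_closedPt {R : CommRingCat.{u}} [IsLocalRing R] (x : (Spec R : Scheme.{u})) :
    x ⤳ IsLocalRing.closedPoint R := IsLocalRing.specializes_closedPoint x

lemma range_fromSpec_subset_of_mem {R : CommRingCat.{u}} [IsLocalRing R] (g : Spec R ⟶ X) (U : X.Opens)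
    (h : g (IsLocalRing.closedPoint R) ∈ U) : Set.range g ⊆ (U : Set X) := by
  rintro _ ⟨x, rfl⟩
  exact ((specializes_closedPt x).map g.continuous).mem_open U.2 h

/-- A specialization is realized by a morphism from the spectrum of a valuation ring. -/
theorem exists_valuation_of_specializes {z' z : X} (h : z' ⤳ z) :
    ∃ (W : CommRingCat.{u}) (_ : IsDomain W) (_ : ValuationRing W) (m : Spec W ⟶ X),
      m (IsLocalRing.closedPoint W) = z ∧ m ⟨⊥, Ideal.isPrime_bot⟩ = z' := by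
  let β := X.presheaf.stalkSpecializes h ≫ X.residue z'
  obtain ⟨A, hA, hloc⟩ := IsLocalRing.exists_factor_valuationRing β.hom
  let α : X.presheaf.stalk z ⟶ CommRingCat.of A := CommRingCat.ofHom (β.hom.codRestrict _ hA)
  haveI : IsDomain (CommRingCat.of A) := inferInstanceAs (IsDomain A)
  haveI : ValuationRing (CommRingCat.of A) := inferInstanceAs (ValuationRing A)
  haveI : IsLocalHom α.hom := hloc
  refine ⟨CommRingCat.of A, inferInstance, inferInstance, Spec.map α ≫ X.fromSpecStalk z, ?_, ?_⟩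
  · rw [Scheme.Hom.comp_apply]
    have : Spec.map α (IsLocalRing.closedPoint (CommRingCat.of A)) = IsLocalRing.closedPoint (X.presheaf.stalk z) :=
      IsLocalRing.comap_closedPoint α.hom
    rw [this, Scheme.fromSpecStalk_closedPoint]
  · have hK : Spec.map (CommRingCat.ofHom A.subtype) ≫ Spec.map α ≫ X.fromSpecStalk z =
        X.fromSpecResidueField z' := by
      rw [← Spec.map_comp_assoc, show α ≫ CommRingCat.ofHom A.subtype = β from rfl, Spec.map_comp_assoc,
        Scheme.SpecMap_stalkSpecializes_fromSpecStalk]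
      rfl
    have h2 : Spec.map (CommRingCat.ofHom A.subtype) (IsLocalRing.closedPoint (X.residueField z')) =
        (⟨⊥, Ideal.isPrime_bot⟩ : PrimeSpectrum A) := by
      refine PrimeSpectrum.ext ?_
      show (IsLocalRing.maximalIdeal (X.residueField z')).comap A.subtype = ⊥
      rw [IsLocalRing.maximalIdeal_eq_bot, ← RingHom.ker_eq_comap_bot]
      exact (RingHom.injective_iff_ker_eq_bot _).mp Subtype.val_injective
    refine (congrArg (Spec.map α ≫ X.fromSpecStalk z) h2.symm).trans ?_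
    rw [← Scheme.Hom.comp_apply, hK, Scheme.fromSpecResidueField_apply]

lemma isExtVal_iff {V W : CommRingCat.{u}} [IsDomain V] [ValuationRing V] [IsDomain W] [ValuationRing W]
    (φ : V ⟶ W) : HTop.IsExtVal V W φ ↔
      Spec.map φ (⟨⊥, Ideal.isPrime_bot⟩ : PrimeSpectrum W) = (⟨⊥, Ideal.isPrime_bot⟩ : PrimeSpectrum V) ∧
        Spec.map φ (IsLocalRing.closedPoint W) = IsLocalRing.closedPoint V := by
  refine and_congr ?_ ⟨fun h => ?_, fun h => ?_⟩
  · rw [RingHom.injective_iff_ker_eq_bot]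
    exact ⟨fun h => PrimeSpectrum.ext h, fun h => congrArg PrimeSpectrum.asIdeal h⟩
  · haveI := h
    exact IsLocalRing.comap_closedPoint φ.hom
  · exact ((IsLocalRing.local_hom_TFAE φ.hom).out 0 4).mpr (congrArg PrimeSpectrum.asIdeal h)

/-- Lifting after extension, for one `Spec V ⟶ T`, in terms of points of the fibre product. -/
theorem exists_lift_iff {V : CommRingCat.{u}} [IsDomain V] [ValuationRing V] (g : Spec V ⟶ T) (f : X ⟶ T) :
    (∃ (W : CommRingCat.{u}) (_ : IsDomain W) (_ : ValuationRing W) (φ : V ⟶ W),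
      HTop.IsExtVal V W φ ∧ ∃ g' : Spec W ⟶ X, g' ≫ f = Spec.map φ ≫ g) ↔
    ∃ w' w : ↥(pullback g f), w' ⤳ w ∧ pullback.fst g f w' = (⟨⊥, Ideal.isPrime_bot⟩ : PrimeSpectrum V) ∧
      pullback.fst g f w = IsLocalRing.closedPoint V := by
  constructor
  · rintro ⟨W, _, _, φ, hφ, g', hg'⟩
    obtain ⟨h1, h2⟩ := (isExtVal_iff φ).mp hφ
    let l : Spec W ⟶ pullback g f := pullback.lift (Spec.map φ) g' hg'.symm
    have hl : l ≫ pullback.fst g f = Spec.map φ := pullback.lift_fst _ _ _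
    refine ⟨l ⟨⊥, Ideal.isPrime_bot⟩, l (IsLocalRing.closedPoint W), (specializes_closedPt _).map l.continuous,
      ?_, ?_⟩
    · rw [← Scheme.Hom.comp_apply, hl]; exact h1
    · rw [← Scheme.Hom.comp_apply, hl]; exact h2
  · rintro ⟨w', w, hs, h1, h2⟩
    obtain ⟨W, _, _, m, hm2, hm1⟩ := exists_valuation_of_specializes hs
    obtain ⟨φ, hφ⟩ := Spec.map_surjective (m ≫ pullback.fst g f)
    refine ⟨W, inferInstance, inferInstance, φ, (isExtVal_iff φ).mpr ⟨?_, ?_⟩, m ≫ pullback.snd g f, ?_⟩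
    · rw [hφ, Scheme.Hom.comp_apply, hm1, h1]
    · rw [hφ, Scheme.Hom.comp_apply, hm2, h2]
    · rw [hφ, Category.assoc, Category.assoc, pullback.condition]

theorem hasValLift_iff (E : PreZeroHypercover.{w} T) :
    HTop.HasValLift E ↔ ∀ (V : CommRingCat.{u}) [IsDomain V] [ValuationRing V] (g : Spec V ⟶ T),
      ∃ (j : E.I₀) (w' w : ↥(pullback g (E.f j))), w' ⤳ w ∧
        pullback.fst g (E.f j) w' = (⟨⊥, Ideal.isPrime_bot⟩ : PrimeSpectrum V) ∧
        pullback.fst g (E.f j) w = IsLocalRing.closedPoint V := by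
  constructor
  · intro h V _ _ g
    obtain ⟨W, i1, i2, φ, hφ, j, g', hg'⟩ := h V g
    exact ⟨j, (exists_lift_iff g (E.f j)).mp ⟨W, i1, i2, φ, hφ, g', hg'⟩⟩
  · intro h V _ _ g
    obtain ⟨j, hj⟩ := h V g
    obtain ⟨W, i1, i2, φ, hφ, g', hg'⟩ := (exists_lift_iff g (E.f j)).mpr hj
    exact ⟨W, i1, i2, φ, hφ, j, g', hg'⟩

/-- A V-lifting family lifts specializations after any base change. -/
theorem exists_specializes_lift {E : PreZeroHypercover.{w} T} (hE : HTop.HasValLift E) {Z : Scheme.{u}}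
    (g : Z ⟶ T) {z' z : Z} (hz : z' ⤳ z) :
    ∃ (j : E.I₀) (w' w : ↥(pullback g (E.f j))), w' ⤳ w ∧ pullback.fst g (E.f j) w' = z' ∧
      pullback.fst g (E.f j) w = z := by
  obtain ⟨V, _, _, m, hm2, hm1⟩ := exists_valuation_of_specializes hz
  obtain ⟨j, w', w, hs, h1, h2⟩ := (hasValLift_iff E).mp hE V (m ≫ g)
  let q : pullback (m ≫ g) (E.f j) ⟶ pullback g (E.f j) :=
    pullback.lift (pullback.fst _ _ ≫ m) (pullback.snd _ _) (by rw [Category.assoc, pullback.condition])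
  have hq : q ≫ pullback.fst g (E.f j) = pullback.fst _ _ ≫ m := pullback.lift_fst _ _ _
  refine ⟨j, q w', q w, hs.map q.continuous, ?_, ?_⟩
  · rw [← Scheme.Hom.comp_apply, hq, Scheme.Hom.comp_apply, h1, hm1]
  · rw [← Scheme.Hom.comp_apply, hq, Scheme.Hom.comp_apply, h2, hm2]

end Points

section Lift

lemma refines_refl (E : PreZeroHypercover.{w} T) : HTop.RefinesOver (𝟙 T) E E :=
  fun j => ⟨j, 𝟙 _, by simp⟩

lemma refines_trans {U U' : Scheme.{u}} {g : U ⟶ T} {h : U' ⟶ U} {G : PreZeroHypercover.{w''} U'}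
    {F : PreZeroHypercover.{w'} U} {E : PreZeroHypercover.{w} T} (h1 : HTop.RefinesOver h G F)
    (h2 : HTop.RefinesOver g F E) : HTop.RefinesOver (h ≫ g) G E := fun k => by
  obtain ⟨j, a, ha⟩ := h1 k
  obtain ⟨i, b, hb⟩ := h2 j
  exact ⟨i, a ≫ b, by rw [Category.assoc, hb, ← Category.assoc, ha, Category.assoc]⟩

lemma hasValLift_of_refines {F : PreZeroHypercover.{w'} T} {E : PreZeroHypercover.{w} T}
    (h : HTop.RefinesOver (𝟙 T) F E) (hF : HTop.HasValLift F) : HTop.HasValLift E := fun V _ _ g => by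
  obtain ⟨W, i1, i2, φ, hφ, j, g', hg'⟩ := hF V g
  obtain ⟨i, a, ha⟩ := h j
  exact ⟨W, i1, i2, φ, hφ, i, g' ≫ a, by rw [Category.assoc, ha, Category.comp_id, hg']⟩

lemma hasValLift_pullback₁ {E : PreZeroHypercover.{w} T} (hE : HTop.HasValLift E) (g : Z ⟶ T) :
    HTop.HasValLift (E.pullback₁ g) := fun V _ _ h => by
  obtain ⟨W, i1, i2, φ, hφ, j, g', hg'⟩ := hE V (h ≫ g)
  exact ⟨W, i1, i2, φ, hφ, j, pullback.lift (Spec.map φ ≫ h) g' (by rw [Category.assoc, hg']),
    pullback.lift_fst _ _ _⟩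

lemma hasValLift_bind {E : PreZeroHypercover.{w} T} (hE : HTop.HasValLift E)
    {F : ∀ j, PreZeroHypercover.{w'} (E.X j)} (hF : ∀ j, HTop.HasValLift (F j)) :
    HTop.HasValLift (E.bind F) := fun V _ _ g => by
  obtain ⟨W, i1, i2, φ, hφ, j, g', hg'⟩ := hE V g
  obtain ⟨W', i3, i4, ψ, hψ, k, g'', hg''⟩ := hF j W g'
  refine ⟨W', i3, i4, φ ≫ ψ, ⟨hψ.1.comp hφ.1, ?_⟩, ⟨j, k⟩, g'', ?_⟩
  · haveI := hφ.2
    haveI := hψ.2
    exact inferInstanceAs (IsLocalHom (ψ.hom.comp φ.hom))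
  · show g'' ≫ (F j).f k ≫ E.f j = _
    rw [← Category.assoc, hg'', Category.assoc, hg', Spec.map_comp_assoc]

/-- Open immersions that cover. -/
lemma hasValLift_of_isOpenImmersion (E : PreZeroHypercover.{w} T) (ho : ∀ j, IsOpenImmersion (E.f j))
    (hs : ∀ t : T, ∃ (j : E.I₀) (x : E.X j), E.f j x = t) : HTop.HasValLift E := fun V _ _ g => by
  obtain ⟨j, x, hx⟩ := hs (g (IsLocalRing.closedPoint V))
  haveI := ho j
  have hr : Set.range g ⊆ Set.range (E.f j) :=
    range_fromSpec_subset_of_mem g (E.f j).opensRange ⟨x, hx⟩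
  refine ⟨V, inferInstance, inferInstance, 𝟙 V, ⟨Function.injective_id, inferInstanceAs (IsLocalHom (RingHom.id V))⟩,
    j, IsOpenImmersion.lift (E.f j) g hr, ?_⟩
  rw [IsOpenImmersion.lift_fac, Spec.map_id, Category.id_comp]

/-- Flat families covering the target. -/
lemma hasValLift_of_flat (E : PreZeroHypercover.{w} T) (hf : ∀ j, Flat (E.f j))
    (hs : ∀ t : T, ∃ (j : E.I₀) (x : E.X j), E.f j x = t) : HTop.HasValLift E := by
  refine (hasValLift_iff E).mpr fun V _ _ g => ?_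
  obtain ⟨j, x, hx⟩ := hs (g (IsLocalRing.closedPoint V))
  haveI := hf j
  obtain ⟨w, hw, -⟩ := Scheme.Pullback.exists_preimage_pullback (f := g) (g := E.f j)
    (IsLocalRing.closedPoint V) x hx.symm
  haveI : Flat (pullback.fst g (E.f j)) := MorphismProperty.pullback_fst _ _ ‹_›
  obtain ⟨w', hs', hw'⟩ := Flat.generalizingMap (pullback.fst g (E.f j))
    (a := w) (b := (⟨⊥, Ideal.isPrime_bot⟩ : PrimeSpectrum V)) (hw ▸ specializes_closedPt _)
  exact ⟨j, w', w, hs', hw', hw⟩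

/-- Proper surjective morphisms. -/
lemma hasValLift_of_universallyClosed (f : X ⟶ T) [UniversallyClosed f] [Surjective f] :
    HTop.HasValLift (PreZeroHypercover.singleton.{w} f) := by
  refine (hasValLift_iff _).mpr fun V _ _ g => ⟨PUnit.unit, ?_⟩
  show ∃ w' w : ↥(pullback g f), w' ⤳ w ∧ pullback.fst g f w' = (⟨⊥, Ideal.isPrime_bot⟩ : PrimeSpectrum V) ∧
      pullback.fst g f w = IsLocalRing.closedPoint V
  haveI : Surjective (pullback.fst g f) := MorphismProperty.pullback_fst _ _ ‹_›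
  haveI : UniversallyClosed (pullback.fst g f) := MorphismProperty.pullback_fst _ _ ‹_›
  obtain ⟨w', hw'⟩ := (pullback.fst g f).surjective (⟨⊥, Ideal.isPrime_bot⟩ : PrimeSpectrum V)
  obtain ⟨w, hs, hw⟩ := (pullback.fst g f).isClosedMap.specializingMap
    (show pullback.fst g f w' ⤳ IsLocalRing.closedPoint V from specializes_closedPt _)
  exact ⟨w', w, hs, hw', hw⟩

end Lift

section Standard

lemma isStandardV_pullback₁ {E : PreZeroHypercover.{w} T} (hE : HTop.IsStandardV E) (g : Z ⟶ T) [IsAffine Z] :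
    HTop.IsStandardV (E.pullback₁ g) := by
  haveI := hE.isAffine
  exact ⟨inferInstance, hE.finite_index, fun j => haveI := hE.isAffine_obj j; inferInstanceAs (IsAffine (pullback g (E.f j))),
    hasValLift_pullback₁ hE.lift g⟩

lemma isStandardV_bind {E : PreZeroHypercover.{w} T} (hE : HTop.IsStandardV E)
    {F : ∀ j, PreZeroHypercover.{w'} (E.X j)} (hF : ∀ j, HTop.IsStandardV (F j)) :
    HTop.IsStandardV (E.bind F) := by
  haveI := hE.finite_index
  haveI := fun j => (hF j).finite_index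
  exact ⟨hE.isAffine, inferInstanceAs (Finite (Σ j, (F j).I₀)), fun k => (hF k.1).isAffine_obj k.2,
    hasValLift_bind hE.lift fun j => (hF j).lift⟩

lemma isStandardV_of_isStandardPh {E : PreZeroHypercover.{w} T} (hE : HTop.IsStandardPh E) :
    HTop.IsStandardV E := by
  refine ⟨hE.isAffine, hE.finite_index, hE.isAffine_obj, ?_⟩
  obtain ⟨U, f, ι, hf, hs, ho, hfac, hcov⟩ := hE.exists_proper
  haveI := hf
  haveI := hs
  let C : PreZeroHypercover.{w} U := { I₀ := E.I₀, X := E.X, f := ι }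
  refine hasValLift_of_refines (F := (PreZeroHypercover.singleton.{w} f).bind fun _ => C) ?_
    (hasValLift_bind (hasValLift_of_universallyClosed f) fun _ => hasValLift_of_isOpenImmersion C ho fun x =>
      let ⟨j, y, hy⟩ := hcov x; ⟨j, y, hy⟩)
  intro k
  exact ⟨k.2, 𝟙 _, (Category.id_comp _).trans ((hfac k.2).symm.trans (Category.comp_id _).symm)⟩

lemma exists_finite_affine_nhds (X : Scheme.{u}) [CompactSpace X] (P : X.affineOpens → Prop)
    (h : ∀ x : X, ∃ V : X.affineOpens, x ∈ (V : X.Opens) ∧ P V) :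
    ∃ (n : ℕ) (V : Fin n → X.affineOpens), (∀ k, P (V k)) ∧ ∀ x : X, ∃ k, x ∈ (V k : X.Opens) := by
  choose V hxV hV using h
  obtain ⟨s, hs⟩ := isCompact_univ.elim_finite_subcover (fun x : X => ((V x : X.Opens) : Set X))
    (fun x => (V x : X.Opens).2) fun x _ => Set.mem_iUnion.mpr ⟨x, hxV x⟩
  refine ⟨s.card, fun k => V (s.equivFin.symm k), fun k => hV _, fun x => ?_⟩
  obtain ⟨y, hy, hxy⟩ := Set.mem_iUnion₂.mp (hs (Set.mem_univ x))
  exact ⟨s.equivFin ⟨y, hy⟩, by simpa using hxy⟩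

/-- The family of the inclusions of finitely many opens. -/
abbrev opensFamily {n : ℕ} (V : Fin n → X.affineOpens) : PreZeroHypercover.{0} X :=
  { I₀ := Fin n, X := fun k => ((V k : X.Opens) : Scheme.{u}), f := fun k => (V k : X.Opens).ι }

lemma isStandardV_opensFamily [IsAffine X] {n : ℕ} (V : Fin n → X.affineOpens)
    (h : ∀ x : X, ∃ k, x ∈ (V k : X.Opens)) : HTop.IsStandardV (opensFamily V) :=
  ⟨inferInstance, inferInstanceAs (Finite (Fin n)), fun k => (V k).2,
    hasValLift_of_isOpenImmersion _ (fun k => inferInstanceAs (IsOpenImmersion (V k : X.Opens).ι)) fun x =>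
      let ⟨k, hk⟩ := h x; ⟨k, ⟨x, hk⟩, rfl⟩⟩

end Standard

section Cover

/-- A V covering is refined by a standard one over every affine scheme over the target. -/
theorem exists_standard_over {E : PreZeroHypercover.{w} T} (hE : HTop.IsVCover E) (h : Z ⟶ T) [IsAffine Z] :
    ∃ F : PreZeroHypercover.{0} Z, HTop.IsStandardV F ∧ HTop.RefinesOver h F E := by
  obtain ⟨n, D, hD, hcov⟩ := exists_finite_affine_nhds Z (fun D => ∃ U : T.affineOpens,
      Set.range ((D : Z.Opens).ι ≫ h) ⊆ ((U : T.Opens) : Set T)) fun z => by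
    obtain ⟨_, ⟨U, hU, rfl⟩, hzU, -⟩ := T.isBasis_affineOpens.exists_subset_of_mem_open (Set.mem_univ (h z)) isOpen_univ
    obtain ⟨_, ⟨D, hD, rfl⟩, hzD, hDU⟩ :=
      Z.isBasis_affineOpens.exists_subset_of_mem_open (a := z) (u := h ⁻¹' U) hzU (U.2.preimage h.continuous)
    refine ⟨⟨D, hD⟩, hzD, ⟨U, hU⟩, ?_⟩
    rintro _ ⟨x, rfl⟩
    exact hDU x.2
  choose U hU using hD
  have hF := fun k => hE (U k)
  choose F hF hFE using hF
  have hl : ∀ k, ∃ a : ((D k : Z.Opens) : Scheme.{u}) ⟶ ((U k : T.Opens) : Scheme.{u}),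
      a ≫ (U k : T.Opens).ι = (D k : Z.Opens).ι ≫ h := fun k =>
    ⟨IsOpenImmersion.lift (U k : T.Opens).ι ((D k : Z.Opens).ι ≫ h) (by
      rw [Scheme.Opens.range_ι]; exact hU k), IsOpenImmersion.lift_fac _ _ _⟩
  choose a ha using hl
  haveI : ∀ k, IsAffine ((D k : Z.Opens) : Scheme.{u}) := fun k => (D k).2
  refine ⟨(opensFamily D).bind fun k => (F k).pullback₁ (a k),
    isStandardV_bind (isStandardV_opensFamily D hcov) fun k => isStandardV_pullback₁ (hF k) (a k), ?_⟩
  rintro ⟨k, j⟩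
  obtain ⟨i, b, hb⟩ := hFE k j
  refine ⟨i, pullback.snd (a k) ((F k).f j) ≫ b, ?_⟩
  show (pullback.snd _ _ ≫ b) ≫ E.f i = (pullback.fst _ _ ≫ (D k : Z.Opens).ι) ≫ h
  rw [Category.assoc, hb, ← Category.assoc, ← pullback.condition, Category.assoc, ha, Category.assoc]

theorem hasValLift_of_isVCover {E : PreZeroHypercover.{w} T} (hE : HTop.IsVCover E) : HTop.HasValLift E :=
  fun V _ _ g => by
    obtain ⟨F, hF, hFE⟩ := exists_standard_over hE g
    obtain ⟨W, i1, i2, φ, hφ, j, g', hg'⟩ := hF.lift V (𝟙 _)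
    obtain ⟨i, b, hb⟩ := hFE j
    exact ⟨W, i1, i2, φ, hφ, i, g' ≫ b, by
      rw [Category.assoc, hb, ← Category.assoc, hg', Category.comp_id]⟩

theorem isVCover_of_refines {F : PreZeroHypercover.{w'} T} {E : PreZeroHypercover.{w} T}
    (h : HTop.RefinesOver (𝟙 T) F E) (hF : HTop.IsVCover F) : HTop.IsVCover E := fun U => by
  obtain ⟨G, hG, hGF⟩ := hF U
  exact ⟨G, hG, by simpa using refines_trans hGF h⟩

theorem isVCover_pullback₁ {E : PreZeroHypercover.{w} T} (hE : HTop.IsVCover E) (g : Z ⟶ T) :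
    HTop.IsVCover (E.pullback₁ g) := fun U => by
  haveI : IsAffine ((U : Z.Opens) : Scheme.{u}) := U.2
  obtain ⟨F, hF, hFE⟩ := exists_standard_over hE ((U : Z.Opens).ι ≫ g)
  refine ⟨F, hF, fun j => ?_⟩
  obtain ⟨i, b, hb⟩ := hFE j
  exact ⟨i, pullback.lift (F.f j ≫ (U : Z.Opens).ι) b (by rw [Category.assoc, ← hb]), pullback.lift_fst _ _ _⟩

theorem isVCover_bind {E : PreZeroHypercover.{w} T} (hE : HTop.IsVCover E)
    {F : ∀ i, PreZeroHypercover.{w'} (E.X i)} (hF : ∀ i, HTop.IsVCover (F i)) : HTop.IsVCover (E.bind F) := fun U => by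
  obtain ⟨G, hG, hGE⟩ := hE U
  choose i a ha using hGE
  have hex : ∀ j : G.I₀, ∃ H : PreZeroHypercover.{0} (G.X j), HTop.IsStandardV H ∧ HTop.RefinesOver (a j) H (F (i j)) :=
    fun j => by
      haveI := hG.isAffine_obj j
      exact exists_standard_over (hF (i j)) (a j)
  choose H hH hHF using hex
  refine ⟨G.bind H, isStandardV_bind hG hH, ?_⟩
  rintro ⟨j, k⟩
  obtain ⟨l, b, hb⟩ := hHF j k
  refine ⟨⟨i j, l⟩, b, ?_⟩
  show b ≫ (F (i j)).f l ≫ E.f (i j) = ((H j).f k ≫ G.f j) ≫ (U : T.Opens).ι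
  rw [← Category.assoc, hb, Category.assoc, ha, Category.assoc]

theorem isVCover_of_isStandardV {E : PreZeroHypercover.{0} T} (hE : HTop.IsStandardV E) : HTop.IsVCover E := fun U => by
  haveI : IsAffine ((U : T.Opens) : Scheme.{u}) := U.2
  refine ⟨E.pullback₁ (U : T.Opens).ι, isStandardV_pullback₁ hE _, fun j => ⟨j, pullback.snd _ _, ?_⟩⟩
  exact pullback.condition.symm

/-- A quasi-compact morphism with valuation lifting is a V covering. -/
theorem isVCover_of_qc (f : X ⟶ T) [QuasiCompact f] (h : HTop.HasValLift (PreZeroHypercover.singleton.{w} f)) :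
    HTop.IsVCover (PreZeroHypercover.singleton.{w} f) := fun U => by
  haveI : IsAffine ((U : T.Opens) : Scheme.{u}) := U.2
  let P := pullback (U : T.Opens).ι f
  haveI : CompactSpace ↥P := QuasiCompact.compactSpace_of_compactSpace (pullback.fst (U : T.Opens).ι f)
  obtain ⟨n, V, -, hV⟩ := exists_finite_affine_nhds P (fun _ => True) fun x => by
    obtain ⟨_, ⟨D, hD, rfl⟩, hx, -⟩ := P.isBasis_affineOpens.exists_subset_of_mem_open (Set.mem_univ x) isOpen_univ
    exact ⟨⟨D, hD⟩, hx, trivial⟩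
  let F : PreZeroHypercover.{0} ((U : T.Opens) : Scheme.{u}) :=
    { I₀ := Fin n, X := fun k => ((V k : P.Opens) : Scheme.{u}), f := fun k => (V k : P.Opens).ι ≫ pullback.fst _ _ }
  refine ⟨F, ⟨inferInstance, inferInstanceAs (Finite (Fin n)), fun k => (V k).2, ?_⟩,
    fun k => ⟨PUnit.unit, (V k : P.Opens).ι ≫ pullback.snd _ _, ?_⟩⟩
  · refine hasValLift_of_refines
      (F := ((PreZeroHypercover.singleton.{w} f).pullback₁ (U : T.Opens).ι).bind fun _ => opensFamily V)
      (fun k => ⟨k.2, 𝟙 _, (Category.id_comp _).trans (Category.comp_id _).symm⟩)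
      (hasValLift_bind (hasValLift_pullback₁ h _) fun _ => hasValLift_of_isOpenImmersion _
        (fun k => inferInstanceAs (IsOpenImmersion (V k : P.Opens).ι)) fun x =>
          let ⟨k, hk⟩ := hV x; ⟨k, ⟨x, hk⟩, rfl⟩)
  · show ((V k : P.Opens).ι ≫ pullback.snd _ _) ≫ f = ((V k : P.Opens).ι ≫ pullback.fst _ _) ≫ (U : T.Opens).ι
    rw [Category.assoc, Category.assoc, pullback.condition]

lemma singleton_refines (f : X ⟶ T) :
    HTop.RefinesOver (𝟙 T) (PreZeroHypercover.singleton.{w'} f) (PreZeroHypercover.singleton.{w} f) :=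
  fun _ => ⟨PUnit.unit, 𝟙 _, (Category.id_comp _).trans (Category.comp_id _).symm⟩

lemma isVCover_singleton_of (f : X ⟶ T) (h : HTop.IsVCover (PreZeroHypercover.singleton.{w'} f)) :
    HTop.IsVCover (PreZeroHypercover.singleton.{w} f) := isVCover_of_refines (singleton_refines f) h

lemma hasValLift_singleton_of (f : X ⟶ T) (h : HTop.HasValLift (PreZeroHypercover.singleton.{w'} f)) :
    HTop.HasValLift (PreZeroHypercover.singleton.{w} f) := hasValLift_of_refines (singleton_refines f) h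

/-- An open covering is a V covering. -/
theorem isVCover_of_isOpenImmersion (E : PreZeroHypercover.{w} T) (ho : ∀ j, IsOpenImmersion (E.f j))
    (hs : ∀ t : T, ∃ (j : E.I₀) (x : E.X j), E.f j x = t) : HTop.IsVCover E := fun U => by
  haveI : IsAffine ((U : T.Opens) : Scheme.{u}) := U.2
  haveI := ho
  obtain ⟨n, D, hD, hcov⟩ := exists_finite_affine_nhds ((U : T.Opens) : Scheme.{u})
    (fun D => ∃ j, Set.range ((D : Scheme.Opens _).ι ≫ (U : T.Opens).ι) ⊆ Set.range (E.f j)) fun z => by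
    obtain ⟨j, x, hx⟩ := hs ((U : T.Opens).ι z)
    obtain ⟨_, ⟨D, hD, rfl⟩, hzD, hDU⟩ :=
      Scheme.isBasis_affineOpens _ |>.exists_subset_of_mem_open (a := z)
        (u := (U : T.Opens).ι ⁻¹' Set.range (E.f j)) ⟨x, hx⟩
        ((E.f j).isOpenEmbedding.isOpen_range.preimage (U : T.Opens).ι.continuous)
    refine ⟨⟨D, hD⟩, hzD, j, ?_⟩
    rintro _ ⟨y, rfl⟩
    exact hDU y.2
  choose j hj using hD
  exact ⟨opensFamily D, isStandardV_opensFamily D hcov,
    fun k => ⟨j k, IsOpenImmersion.lift (E.f (j k)) _ (hj k), IsOpenImmersion.lift_fac _ _ _⟩⟩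

/-- The inclusions into a coproduct form a V covering. -/
theorem isVCover_sigmaι {ι : Type u} (F : ι → Scheme.{u}) :
    HTop.IsVCover ({ I₀ := ι, X := F, f := Sigma.ι F } : PreZeroHypercover.{u} (∐ F)) :=
  isVCover_of_isOpenImmersion _ (fun j => inferInstanceAs (IsOpenImmersion (Sigma.ι F j))) fun t => by
    obtain ⟨⟨j, x⟩, hx⟩ := (sigmaMk F).surjective t
    exact ⟨j, x, (sigmaMk_mk F j x).symm.trans hx⟩

/-- A flat family, quasi-compactly covering every affine open, is a V covering. -/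
theorem isVCover_of_flat (E : PreZeroHypercover.{w} T) (hf : ∀ j, Flat (E.f j))
    (hqc : ∀ {U : T.Opens}, IsAffineOpen U → IsCompactOpenCovered (E.f ·) (U : Set T)) :
    HTop.IsVCover E := fun U => by
  haveI : IsAffine ((U : T.Opens) : Scheme.{u}) := U.2
  haveI := hf
  obtain ⟨s, hs, V, hV, hcov⟩ := hqc U.2
  haveI := hs.to_subtype
  have hVc : ∀ i : s, CompactSpace (((V i.1 i.2 : (E.X i.1).Opens) : Scheme.{u})) := fun i =>
    isCompact_iff_compactSpace.mp (hV i.1 i.2)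
  have hsub : ∀ i : s, Set.range ((Scheme.Opens.ι (V i.1 i.2 : (E.X i.1).Opens)) ≫ E.f i.1) ⊆
      ((U : T.Opens) : Set T) := by
    rintro i _ ⟨x, rfl⟩
    rw [← hcov]
    exact Set.mem_iUnion₂.mpr ⟨i.1, i.2, x.1, x.2, rfl⟩
  have hfin : ∀ i : s, ∃ (n : ℕ) (W : Fin n → ((V i.1 i.2 : (E.X i.1).Opens) : Scheme.{u}).affineOpens),
      ∀ x, ∃ k, x ∈ (W k).1 := fun i => by
    haveI := hVc i
    obtain ⟨n, W, -, hW⟩ := exists_finite_affine_nhds ((V i.1 i.2 : (E.X i.1).Opens) : Scheme.{u}) (fun _ => True)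
      fun x => by
      obtain ⟨_, ⟨D, hD, rfl⟩, hx, -⟩ :=
        Scheme.isBasis_affineOpens _ |>.exists_subset_of_mem_open (Set.mem_univ x) isOpen_univ
      exact ⟨⟨D, hD⟩, hx, trivial⟩
    exact ⟨n, W, hW⟩
  choose n W hW using hfin
  let a : ∀ i : s, ((V i.1 i.2 : (E.X i.1).Opens) : Scheme.{u}) ⟶ ((U : T.Opens) : Scheme.{u}) := fun i =>
    IsOpenImmersion.lift (U : T.Opens).ι ((Scheme.Opens.ι (V i.1 i.2 : (E.X i.1).Opens)) ≫ E.f i.1)
      (by rw [Scheme.Opens.range_ι]; exact hsub i)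
  have ha : ∀ i, a i ≫ (U : T.Opens).ι = (Scheme.Opens.ι (V i.1 i.2 : (E.X i.1).Opens)) ≫ E.f i.1 :=
    fun i => IsOpenImmersion.lift_fac _ _ _
  obtain ⟨m, ⟨e⟩⟩ := Finite.exists_equiv_fin (Σ i : s, Fin (n i))
  let F : PreZeroHypercover.{0} ((U : T.Opens) : Scheme.{u}) :=
    { I₀ := Fin m
      X := fun k => ((W (e.symm k).1 (e.symm k).2).1 : Scheme.{u})
      f := fun k => (W (e.symm k).1 (e.symm k).2).1.ι ≫ a (e.symm k).1 }
  have hflat : ∀ i : s, Flat (a i) := fun i => by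
    haveI : Flat (a i ≫ (U : T.Opens).ι) := by
      rw [ha]
      haveI : Flat (Scheme.Opens.ι (V i.1 i.2 : (E.X i.1).Opens)) := inferInstance
      exact MorphismProperty.comp_mem _ _ _ inferInstance (hf i.1)
    exact MorphismProperty.of_postcomp (W := @Flat) (W' := @IsOpenImmersion) (a i) (U : T.Opens).ι inferInstance ‹_›
  refine ⟨F, ⟨inferInstance, inferInstanceAs (Finite (Fin m)), fun k => (W _ _).2,
    hasValLift_of_flat F (fun k => ?_) fun t => ?_⟩, fun k => ?_⟩
  · haveI := hflat (e.symm k).1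
    exact MorphismProperty.comp_mem _ _ _ inferInstance (hflat (e.symm k).1)
  · have ht : (U : T.Opens).ι t ∈ ⋃ (i : E.I₀) (h : i ∈ s), (E.f i) '' (V i h) := by rw [hcov]; exact t.2
    obtain ⟨i, hi, x, hx, hxt⟩ := Set.mem_iUnion₂.mp ht
    obtain ⟨k, hk⟩ := hW ⟨i, hi⟩ ⟨x, hx⟩
    refine ⟨e ⟨⟨i, hi⟩, k⟩, ?_⟩
    have key : ∃ y : ((W ⟨i, hi⟩ k).1 : Scheme.{u}),
        ((W ⟨i, hi⟩ k).1.ι ≫ a ⟨i, hi⟩) y = t := by
      refine ⟨⟨⟨x, hx⟩, hk⟩, Subtype.ext ?_⟩
      show (U : T.Opens).ι _ = (U : T.Opens).ι t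
      rw [← Scheme.Hom.comp_apply, Category.assoc, ha]
      exact hxt
    show ∃ y, ((W (e.symm _).1 (e.symm _).2).1.ι ≫ a (e.symm _).1) y = t
    have gen : ∀ p : Σ i : s, Fin (n i), p = ⟨⟨i, hi⟩, k⟩ →
        ∃ y : ((W p.1 p.2).1 : Scheme.{u}), ((W p.1 p.2).1.ι ≫ a p.1) y = t := by
      rintro p rfl; exact key
    exact gen _ (e.symm_apply_apply _)
  · refine ⟨(e.symm k).1.1, (W (e.symm k).1 (e.symm k).2).1.ι ≫ Scheme.Opens.ι (V _ (e.symm k).1.2), ?_⟩
    show _ = ((W (e.symm k).1 (e.symm k).2).1.ι ≫ a _) ≫ (U : T.Opens).ι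
    rw [Category.assoc, Category.assoc, ha]

end Cover

end Groth.Agent.VCov
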