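import Groth.Agent.VCov.Sheaf

/-!
# V sheaves and ph sheaves from Zariski sheaves
-/

set_option autoImplicit false
set_option backward.isDefEq.respectTransparency.types false

universe w v v' u

open CategoryTheory CategoryTheory.Limits AlgebraicGeometry Opposite

namespace Groth.Agent.VCov

variable {T : Scheme.{u}}

/-- Re-indexing a family along an equivalence. -/
abbrev reindexFamily (E : PreZeroHypercover.{v} T) {ι : Type v'} (e : ι ≃ E.I₀) : PreZeroHypercover.{v'} T :=
  { I₀ := ι, X := fun i => E.X (e i), f := fun i => E.f (e i) }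

lemma reindexFamily_refines (E : PreZeroHypercover.{v} T) {ι : Type v'} (e : ι ≃ E.I₀) :
    HTop.RefinesOver (𝟙 T) (reindexFamily E e) E :=
  fun i => ⟨e i, 𝟙 _, (Category.id_comp _).trans (Category.comp_id _).symm⟩

lemma refines_reindexFamily (E : PreZeroHypercover.{v} T) {ι : Type v'} (e : ι ≃ E.I₀) :
    HTop.RefinesOver (𝟙 T) E (reindexFamily E e) := fun j => ⟨e.symm j, eqToHom (by simp), by
  simp only [Category.comp_id]
  have : ∀ k, k = j → ∀ h : E.X j = E.X k, eqToHom h ≫ E.f k = E.f j := by rintro k rfl h; simp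
  exact this _ (e.apply_symm_apply j) _⟩

lemma presieve₀_reindexFamily (E : PreZeroHypercover.{v} T) {ι : Type v'} (e : ι ≃ E.I₀) :
    (reindexFamily E e).presieve₀ = E.presieve₀ := by
  funext Y; ext f
  constructor
  · rintro ⟨i⟩; exact ⟨e i⟩
  · rintro ⟨j⟩
    obtain ⟨i, rfl⟩ := e.surjective j
    exact ⟨i⟩

lemma isStandardV_reindexFamily {E : PreZeroHypercover.{v} T} (hE : HTop.IsStandardV E) {ι : Type v'} (e : ι ≃ E.I₀) :
    HTop.IsStandardV (reindexFamily E e) := by
  haveI := hE.finite_index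
  exact ⟨hE.isAffine, Finite.of_equiv _ e.symm, fun i => hE.isAffine_obj _,
    hasValLift_of_refines (refines_reindexFamily E e) hE.lift⟩

lemma exists_small_standardV {E : PreZeroHypercover.{v} T} (hE : HTop.IsStandardV E) :
    ∃ E' : PreZeroHypercover.{v'} T, HTop.IsStandardV E' ∧ E'.presieve₀ = E.presieve₀ := by
  haveI := hE.finite_index
  obtain ⟨n, ⟨e⟩⟩ := Finite.exists_equiv_fin E.I₀
  exact ⟨reindexFamily E (Equiv.ulift.{v'}.trans e.symm), isStandardV_reindexFamily hE _, presieve₀_reindexFamily E _⟩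

lemma presieve₀_singleton' {X : Scheme.{u}} (f : X ⟶ T) :
    (PreZeroHypercover.singleton.{v} f).presieve₀ = Presieve.singleton f := Presieve.ofArrows_pUnit f

lemma sieve_le_pullback {Z : Scheme.{u}} {g : Z ⟶ T} {E' : PreZeroHypercover.{v'} Z} {E : PreZeroHypercover.{v} T}
    (h : HTop.RefinesOver g E' E) : Sieve.generate E'.presieve₀ ≤ (Sieve.generate E.presieve₀).pullback g := by
  rw [Sieve.generate_le_iff]
  rintro Y _ ⟨j⟩
  obtain ⟨i, a, ha⟩ := h j
  exact ⟨_, a, E.f i, ⟨i⟩, ha⟩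

lemma pullback₁_refines (E : PreZeroHypercover.{v} T) {Z : Scheme.{u}} (g : Z ⟶ T) :
    HTop.RefinesOver g (E.pullback₁ g) E :=
  fun j => ⟨j, pullback.snd g (E.f j), pullback.condition.symm⟩

/-- A V sheaf is a sheaf for each standard V covering. -/
theorem isSheafFor_of_isStandardV {F : Scheme.{u}ᵒᵖ ⥤ Type w} (hF : HTop.IsVSheaf F) {E : PreZeroHypercover.{v} T}
    (hE : HTop.IsStandardV E) : Presieve.IsSheafFor F E.presieve₀ := by
  obtain ⟨E', hE', he⟩ := exists_small_standardV.{v, 0} hE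
  exact he ▸ hF _ ((HTop.presieve₀_mem_vPrecoverage_iff E').mpr (isVCover_of_isStandardV hE'))

/-- A V sheaf is a Zariski sheaf. -/
theorem isSheaf_zariski_of_isVSheaf {F : Scheme.{u}ᵒᵖ ⥤ Type w} (hF : HTop.IsVSheaf F) :
    Presieve.IsSheaf Scheme.zariskiTopology F := by
  refine ((Scheme.precoverage @IsOpenImmersion).isSheaf_toGrothendieck_iff F).mpr ?_
  intro X Y f R hR
  obtain ⟨ι, Z, g, rfl⟩ := R.exists_eq_ofArrows
  obtain ⟨hs, ho⟩ := (Scheme.ofArrows_mem_precoverage_iff _).mp hR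
  let E : PreZeroHypercover X := { I₀ := ι, X := Z, f := g }
  have hV : HTop.IsVCover E := isVCover_of_isOpenImmersion E ho hs
  have hp : Sieve.generate (E.pullback₁ f).presieve₀ = (Sieve.generate E.presieve₀).pullback f := by
    refine le_antisymm (sieve_le_pullback (pullback₁_refines E f)) fun W k hk => ?_
    obtain ⟨_, a, _, ⟨i⟩, ha⟩ := hk
    exact ⟨_, pullback.lift k a ha.symm, _, ⟨i⟩, pullback.lift_fst _ _ _⟩
  show Presieve.IsSheafFor F ((Sieve.generate E.presieve₀).pullback f).arrows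
  rw [← hp, ← Presieve.isSheafFor_iff_generate]
  exact hF _ ((HTop.presieve₀_mem_vPrecoverage_iff _).mpr (isVCover_pullback₁ hV f))

variable {F : Scheme.{u}ᵒᵖ ⥤ Type w}

/-- The sieves of standard V coverings. -/
def StdSieve (D : Scheme.{u}) (Q : Sieve D) : Prop :=
  ∃ E : PreZeroHypercover.{0} D, HTop.IsStandardV E ∧ Sieve.generate E.presieve₀ = Q

/-- The sieves of one-member standard V coverings. -/
def StdSingle (D : Scheme.{u}) (Q : Sieve D) : Prop :=
  ∃ (V : Scheme.{u}) (f : V ⟶ D), HTop.IsStandardV (PreZeroHypercover.singleton.{0} f) ∧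
    Sieve.generate (Presieve.singleton f) = Q

theorem stdSieve_pullback (T T' : Scheme.{u}) (Q : Sieve T) (g : T' ⟶ T) (_ : IsAffine T) (_ : IsAffine T')
    (hQ : StdSieve T Q) : ∃ Q', StdSieve T' Q' ∧ Q' ≤ Q.pullback g := by
  obtain ⟨E, hE, rfl⟩ := hQ
  exact ⟨_, ⟨_, isStandardV_pullback₁ hE g, rfl⟩, sieve_le_pullback (pullback₁_refines E g)⟩

theorem stdSingle_pullback (T T' : Scheme.{u}) (Q : Sieve T) (g : T' ⟶ T) (_ : IsAffine T) (_ : IsAffine T')
    (hQ : StdSingle T Q) : ∃ Q', StdSingle T' Q' ∧ Q' ≤ Q.pullback g := by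
  obtain ⟨V, f, hE, rfl⟩ := hQ
  refine ⟨_, ⟨_, pullback.fst g f, isStandardV_pullback₁ hE g, rfl⟩, ?_⟩
  rw [Sieve.generate_le_iff]
  rintro Y _ ⟨⟩
  exact ⟨_, pullback.snd g f, f, ⟨⟩, pullback.condition.symm⟩

/-- A Zariski sheaf with the sheaf property for standard V coverings is a V sheaf. -/
theorem isVSheaf_of_standard (hF : Presieve.IsSheaf Scheme.zariskiTopology F)
    (h : ∀ (D : Scheme.{u}) (E : PreZeroHypercover.{0} D), HTop.IsStandardV E →
      Presieve.IsSheafFor F E.presieve₀) : HTop.IsVSheaf F := by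
  intro X R hR
  obtain ⟨E, hE, rfl⟩ := PreZeroHypercoverFamily.mem_precoverage_iff.mp hR
  refine isSheafFor_of_generate_mem_finest (IsLoc.mem_finest hF ?_ stdSieve_pullback fun D k hD => ?_)
  · rintro D Q hD ⟨G, hG, rfl⟩
    exact (Presieve.isSheafFor_iff_generate _).mp (h D G hG)
  · obtain ⟨G, hG, hGE⟩ := exists_standard_over hE k
    exact ⟨_, ⟨G, hG, rfl⟩, sieve_le_pullback hGE⟩

/-- A Zariski sheaf with the sheaf property for one-member standard V coverings is a V sheaf. -/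
theorem isVSheaf_of_standard_singleton (hF : Presieve.IsSheaf Scheme.zariskiTopology F)
    (h : ∀ (D V : Scheme.{u}) (f : V ⟶ D), HTop.IsStandardV (PreZeroHypercover.singleton.{0} f) →
      Presieve.IsSheafFor F (Presieve.singleton f)) : HTop.IsVSheaf F := by
  refine isVSheaf_of_standard hF fun D E hE => isSheafFor_of_generate_mem_finest ?_
  haveI := hE.finite_index
  haveI := hE.isAffine_obj
  let q : ∐ E.X ⟶ D := Sigma.desc E.f
  have hq : HTop.IsStandardV (PreZeroHypercover.singleton.{0} q) := by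
    refine ⟨hE.isAffine, inferInstanceAs (Finite PUnit), fun _ => inferInstanceAs (IsAffine (∐ E.X)),
      hasValLift_of_refines (F := E) (fun j => ⟨PUnit.unit, Sigma.ι E.X j, ?_⟩) hE.lift⟩
    exact (Sigma.ι_desc _ _).trans (Category.comp_id _).symm
  have hqK : Sieve.generate (Presieve.singleton q) ∈ Sheaf.finestTopologySingle F D :=
    mem_finest_of_mem hF (fun T Q _ ⟨V, f, hf, e⟩ => e ▸ (Presieve.isSheafFor_iff_generate _).mp (h T V f hf))
      stdSingle_pullback hE.isAffine ⟨_, q, hq, rfl⟩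
  refine (Sheaf.finestTopologySingle F).transitive hqK _ ?_
  rintro Y _ ⟨_, a, _, ⟨⟩, rfl⟩
  rw [Sieve.pullback_comp]
  refine (Sheaf.finestTopologySingle F).pullback_stable a ?_
  refine (Sheaf.finestTopologySingle F).superset_covering ?_
    (zariski_le_finest hF _ (sigmaOpenCover E.X).mem_grothendieckTopology)
  rintro Z _ ⟨_, b, _, ⟨j⟩, rfl⟩
  refine ⟨_, b, E.f j, ⟨j⟩, ?_⟩
  show b ≫ E.f j = (b ≫ Sigma.ι E.X j) ≫ q
  rw [Category.assoc]
  exact congrArg (fun m => b ≫ m) (Sigma.ι_desc E.f j).symm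

/-- A Zariski sheaf with the sheaf property for proper surjective morphisms is a ph sheaf. -/
theorem isPhSheaf_of_proper (hF : Presieve.IsSheaf Scheme.zariskiTopology F)
    (h : ∀ (D V : Scheme.{u}) (f : V ⟶ D), IsProper f → Surjective f →
      Presieve.IsSheafFor F (Presieve.singleton f)) : HTop.IsPhSheaf F := by
  intro X R hR
  obtain ⟨E, hE, rfl⟩ := PreZeroHypercoverFamily.mem_precoverage_iff.mp hR
  refine isSheafFor_of_generate_mem_finest ((Sheaf.finestTopologySingle F).transitive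
    (zariski_le_finest hF _ X.affineCover.mem_grothendieckTopology) _ ?_)
  rintro Y _ ⟨_, a, _, ⟨i⟩, rfl⟩
  rw [Sieve.pullback_comp]
  refine (Sheaf.finestTopologySingle F).pullback_stable a ?_
  let j := X.affineCover.f i
  let U : X.affineOpens := ⟨j.opensRange, isAffineOpen_opensRange j⟩
  obtain ⟨G, hG, hGE⟩ := hE.2 U
  obtain ⟨V, f, ι, hf, hs, ho, hfac, hcov⟩ := hG.exists_proper
  have hj : j = j.isoOpensRange.hom ≫ (U : X.Opens).ι := (Scheme.Hom.isoOpensRange_hom_ι j).symm
  show (Sieve.generate E.presieve₀).pullback j ∈ _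
  rw [hj, Sieve.pullback_comp]
  refine (Sheaf.finestTopologySingle F).pullback_stable _ ?_
  let P : MorphismProperty Scheme.{u} := fun _ _ k => IsProper k ∧ Surjective k
  haveI : P.IsStableUnderBaseChange :=
    ⟨fun {_ _ _ _ _ _ _ _} sq hk => ⟨MorphismProperty.of_isPullback sq hk.1, MorphismProperty.of_isPullback sq hk.2⟩⟩
  refine (Sheaf.finestTopologySingle F).transitive
    (singleton_mem_finest P (fun _ _ k hk => h _ _ k hk.1 hk.2) f ⟨hf, hs⟩) _ ?_
  rintro Z _ ⟨_, b, _, ⟨⟩, rfl⟩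
  rw [Sieve.pullback_comp]
  refine (Sheaf.finestTopologySingle F).pullback_stable b ?_
  refine (Sheaf.finestTopologySingle F).superset_covering ?_ (zariski_le_finest hF _
    (Precoverage.generate_mem_toGrothendieck
      ((Scheme.ofArrows_mem_precoverage_iff @IsOpenImmersion (f := ι)).mpr ⟨hcov, ho⟩)))
  rintro W _ ⟨_, c, _, ⟨k⟩, rfl⟩
  obtain ⟨l, d, hd⟩ := hGE k
  refine ⟨_, c ≫ d, E.f l, ⟨l⟩, ?_⟩
  show (c ≫ d) ≫ E.f l = ((c ≫ ι k) ≫ f) ≫ (U : X.Opens).ι
  rw [Category.assoc, Category.assoc, Category.assoc, hd, ← hfac k, Category.assoc]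

end Groth.Agent.VCov
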