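import Groth.Agent.VCov.Basic
import Mathlib.AlgebraicGeometry.Morphisms.QuasiCompact

/-!
# V coverings are universally submersive

A morphism through which a V covering factors is a quotient map on points.
-/

set_option autoImplicit false
set_option backward.isDefEq.respectTransparency.types false

universe w u

open CategoryTheory CategoryTheory.Limits AlgebraicGeometry

namespace Groth.Agent.VCov

variable {T X Y Z : Scheme.{u}}

/-- In an affine scheme the image of a closed set under a quasi-compact morphism is closed as soon as it is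
stable under specialization. -/
theorem isClosed_image_of_stableUnderSpecialization (f : X ⟶ Y) [QuasiCompact f] [IsAffine Y] (C : Set X)
    (hC : IsClosed C) (hs : StableUnderSpecialization (f '' C)) : IsClosed (f '' C) := by
  haveI : CompactSpace X := QuasiCompact.compactSpace_of_compactSpace f
  obtain ⟨R, g, hg⟩ := compactSpace_iff_exists.mp ‹CompactSpace X›
  obtain ⟨φ, hφ⟩ := Spec.map_surjective (g ≫ f ≫ Y.isoSpec.hom)
  have him : Spec.map φ '' (g ⁻¹' C) = Y.isoSpec.hom '' (f '' C) := by
    rw [hφ, Set.image_image]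
    calc (g ≫ f ≫ Y.isoSpec.hom) '' (g ⁻¹' C)
        = (fun x => Y.isoSpec.hom (f x)) '' (g '' (g ⁻¹' C)) := by rw [Set.image_image]; rfl
      _ = _ := by rw [Set.image_preimage_eq _ hg]
  have he : Topology.IsClosedEmbedding (Y.isoSpec.hom : Y → Spec Γ(Y, ⊤)) :=
    (Y.isoSpec.hom).homeomorph.isClosedEmbedding
  have hs' : StableUnderSpecialization (Spec.map φ '' (g ⁻¹' C)) := by
    rw [him]
    exact hs.image he.isClosedMap.specializingMap
  have hcl : IsClosed (Spec.map φ '' (g ⁻¹' C)) :=
    PrimeSpectrum.isClosed_image_of_stableUnderSpecialization φ.hom _ (hC.preimage g.continuous) hs'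
  rw [him] at hcl
  exact he.isClosed_iff_image_isClosed.mpr hcl

/-- A morphism through which all the members of a V covering factor is submersive. -/
theorem isQuotientMap_of_isVCover (p : X ⟶ T) {E : PreZeroHypercover.{w} T} (hE : HTop.IsVCover E)
    (hp : ∀ i, ∃ a : E.X i ⟶ X, a ≫ p = E.f i) : Topology.IsQuotientMap p := by
  choose a ha using hp
  refine Topology.isQuotientMap_iff_isClosed.mpr ⟨fun t => ?_, fun C => ⟨fun h => h.preimage p.continuous, fun hC => ?_⟩⟩
  · obtain ⟨j, w', w, -, h1, -⟩ := exists_specializes_lift (hasValLift_of_isVCover hE) (𝟙 T) (specializes_refl t)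
    refine ⟨(pullback.snd (𝟙 T) (E.f j) ≫ a j) w', ?_⟩
    rw [← Scheme.Hom.comp_apply, Category.assoc, ha, ← pullback.condition, Category.comp_id, h1]
  · refine (TopologicalSpace.IsOpenCover.isClosed_iff_coe_preimage T.isBasis_affineOpens.isOpenCover).mpr ?_
    rintro ⟨U, hU⟩
    haveI : IsAffine ((U : T.Opens) : Scheme.{u}) := hU
    obtain ⟨F, hF, hFE⟩ := hE ⟨U, hU⟩
    haveI := hF.finite_index
    haveI := hF.isAffine_obj
    choose i b hb using hFE
    let q : ∐ F.X ⟶ (U : Scheme.{u}) := Sigma.desc F.f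
    let c : ∐ F.X ⟶ X := Sigma.desc fun k => b k ≫ a (i k)
    have hc : c ≫ p = q ≫ Scheme.Opens.ι U := by
      refine Sigma.hom_ext _ _ fun k => ?_
      rw [Sigma.ι_desc_assoc, Category.assoc, ha, Sigma.ι_desc_assoc]
      exact hb k
    haveI : QuasiCompact q := inferInstance
    have hlift : ∀ {z' z : (U : Scheme.{u})}, z' ⤳ z →
        ∃ x' x : ↥(∐ F.X), x' ⤳ x ∧ q x' = z' ∧ q x = z := fun {z' z} hz => by
      obtain ⟨k, w', w, hs, h1, h2⟩ := exists_specializes_lift hF.lift (𝟙 (U : Scheme.{u})) hz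
      have hq : (pullback.snd (𝟙 (U : Scheme.{u})) (F.f k) ≫ Sigma.ι F.X k) ≫ q = pullback.fst _ _ := by
        rw [Category.assoc, Sigma.ι_desc, ← pullback.condition, Category.comp_id]
      refine ⟨_, _, hs.map (pullback.snd (𝟙 _) (F.f k) ≫ Sigma.ι F.X k).continuous, ?_, ?_⟩
      · rw [← Scheme.Hom.comp_apply, hq]; exact h1
      · rw [← Scheme.Hom.comp_apply, hq]; exact h2
    have hpre : q ⁻¹' ((Scheme.Opens.ι U) ⁻¹' C) = c ⁻¹' (p ⁻¹' C) := by
      rw [← Set.preimage_comp, ← Set.preimage_comp]
      exact congrArg (fun m : ∐ F.X ⟶ T => (m : ↥(∐ F.X) → T) ⁻¹' C) hc.symm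
    have him : q '' (q ⁻¹' ((Scheme.Opens.ι U) ⁻¹' C)) = Scheme.Opens.ι U ⁻¹' C := Set.image_preimage_eq _ fun z => by
      obtain ⟨x', _, _, h, _⟩ := hlift (specializes_refl z)
      exact ⟨x', h⟩
    have hZ : IsClosed (q ⁻¹' ((Scheme.Opens.ι U) ⁻¹' C)) := by rw [hpre]; exact hC.preimage c.continuous
    have := isClosed_image_of_stableUnderSpecialization q _ hZ (by
      rw [him]
      intro z' z hz hz'
      obtain ⟨x', x, hs, h1, h2⟩ := hlift hz
      rw [← h2]
      exact hs.mem_closed hZ (show Scheme.Opens.ι U (q x') ∈ C by rw [h1]; exact hz'))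
    rw [him] at this
    exact this

/-- The morphism out of the coproduct of a V covering is universally submersive. -/
theorem univSubmersive_sigmaDesc (E : PreZeroHypercover.{u} T) (hE : HTop.IsVCover E) :
    SGA1.UnivSubmersive (Sigma.desc E.f) := by
  intro X' Y' i₁ i₂ f' h
  refine isQuotientMap_of_isVCover f' (isVCover_pullback₁ hE i₂) fun i => ?_
  refine ⟨h.lift (pullback.fst i₂ (E.f i)) (pullback.snd _ _ ≫ Sigma.ι E.X i) ?_, h.lift_fst _ _ _⟩
  rw [Category.assoc, Sigma.ι_desc]
  exact pullback.condition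

end Groth.Agent.VCov
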