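import Groth.Agent.VCov.Basic
import Mathlib.CategoryTheory.Sites.Over

/-!
# ph and h sheaves do not see thickenings
-/

set_option autoImplicit false
set_option backward.isDefEq.respectTransparency.types false

universe v u

open CategoryTheory CategoryTheory.Limits AlgebraicGeometry Opposite

namespace Groth.Agent.VCov

theorem isPhCover_singleton_of_thickening {X X' : Scheme.{u}} (f : X ⟶ X') [IsClosedImmersion f] [Surjective f] :
    HTop.IsPhCover (PreZeroHypercover.singleton.{v} f) := by
  refine ⟨fun _ => inferInstanceAs (LocallyOfFiniteType f), fun U => ?_⟩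
  haveI : IsAffine ((U : X'.Opens) : Scheme.{u}) := U.2
  haveI : IsClosedImmersion (f ∣_ (U : X'.Opens)) := IsZariskiLocalAtTarget.restrict ‹_› _
  haveI : Surjective (f ∣_ (U : X'.Opens)) := IsZariskiLocalAtTarget.restrict ‹_› _
  have hA : IsAffine ((f ⁻¹ᵁ (U : X'.Opens) : X.Opens) : Scheme.{u}) := U.2.preimage f
  refine ⟨PreZeroHypercover.singleton.{0} (f ∣_ (U : X'.Opens)),
    ⟨inferInstance, inferInstanceAs (Finite PUnit), fun _ => hA, _, f ∣_ (U : X'.Opens), fun _ => 𝟙 _,
      inferInstance, inferInstance, fun _ => (inferInstance : IsOpenImmersion (𝟙 ((f ⁻¹ᵁ (U : X'.Opens) : X.Opens) : Scheme.{u}))),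
      fun _ => Category.id_comp _, fun x => ⟨PUnit.unit, x, rfl⟩⟩,
    fun _ => ⟨PUnit.unit, (f ⁻¹ᵁ (U : X'.Opens)).ι, (morphismRestrict_ι f _).symm⟩⟩

/-- A sheaf on `Over S` for a topology in which the monomorphism `f.left` covers is bijective along `f`. -/
theorem bijective_map_of_mono_covering {S : Scheme.{u}} (J : GrothendieckTopology Scheme.{u})
    (F : Sheaf (J.over S) (Type v)) {X X' : Over S} (f : X ⟶ X') [Mono f.left]
    (hf : Sieve.generate (Presieve.singleton f.left) ∈ J X'.left) : Function.Bijective (F.obj.map f.op) := by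
  haveI : Mono f := Over.mono_of_mono_left f
  have hs : Presieve.IsSheafFor F.obj (Presieve.singleton f) := by
    refine (Presieve.isSheafFor_iff_generate _).mpr ((isSheaf_iff_isSheaf_of_type _ _).mp F.property _ ?_)
    rw [GrothendieckTopology.mem_over_iff, Sieve.overEquiv_generate]
    refine J.superset_covering ?_ hf
    rw [Sieve.generate_le_iff]
    rintro Y _ ⟨⟩
    exact ⟨_, 𝟙 _, f.left, ⟨X, f, 𝟙 _, ⟨⟩, (Category.id_comp _).symm⟩, Category.id_comp _⟩
  refine Function.bijective_iff_existsUnique _ |>.mpr fun x =>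
    Presieve.isSheafFor_singleton.mp hs x fun {Z} p₁ p₂ e => ?_
  rw [(cancel_mono f).mp e]

theorem thickening_mem_phTopology {X X' : Scheme.{u}} (f : X ⟶ X') [IsClosedImmersion f] [Surjective f] :
    Sieve.generate (Presieve.singleton f) ∈ HTop.phTopology X' := by
  rw [← Presieve.ofArrows_pUnit.{u + 1}]
  exact Precoverage.generate_mem_toGrothendieck
    ((HTop.presieve₀_mem_phPrecoverage_iff _).mpr (isPhCover_singleton_of_thickening.{u + 1} f))

theorem thickening_mem_hTopology {X X' : Scheme.{u}} (f : X ⟶ X') [IsClosedImmersion f] [Surjective f]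
    [LocallyOfFinitePresentation f] : Sieve.generate (Presieve.singleton f) ∈ HTop.hTopology X' := by
  rw [← Presieve.ofArrows_pUnit.{u + 1}]
  exact Precoverage.generate_mem_toGrothendieck
    ((HTop.presieve₀_mem_hPrecoverage_iff (PreZeroHypercover.singleton.{u + 1} f)).mpr
      ⟨fun _ => ‹LocallyOfFinitePresentation f›, isVCover_of_qc f (hasValLift_of_universallyClosed f)⟩)

end Groth.Agent.VCov
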