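import Groth.Agent.VCov.Basic
import Mathlib.AlgebraicGeometry.Sites.BigZariski
import Mathlib.CategoryTheory.Sites.Canonical

/-!
# Sheaf conditions checked on affine schemes

For a Zariski sheaf, a class of sieves on affine schemes that is stable under base change between affine
schemes and satisfies the sheaf condition consists of covering sieves for the finest topology of the sheaf.
-/

set_option autoImplicit false
set_option backward.isDefEq.respectTransparency.types false

universe w v u

open CategoryTheory CategoryTheory.Limits AlgebraicGeometry Opposite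

namespace Groth.Agent.VCov

variable {F : Scheme.{u}ᵒᵖ ⥤ Type w}

local notation "K" => Sheaf.finestTopologySingle F

theorem zariski_le_finest (hF : Presieve.IsSheaf Scheme.zariskiTopology F) : Scheme.zariskiTopology ≤ K :=
  fun _ _ hS _ f => hF _ (Scheme.zariskiTopology.pullback_stable f hS)

theorem isSheafFor_of_mem_finest {X : Scheme.{u}} {S : Sieve X} (hS : S ∈ K X) : Presieve.IsSheafFor F S.arrows := by
  have := hS X (𝟙 X)
  rwa [Sieve.pullback_id] at this

theorem isSheafFor_of_generate_mem_finest {X : Scheme.{u}} {R : Presieve X} (hR : Sieve.generate R ∈ K X) :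
    Presieve.IsSheafFor F R := (Presieve.isSheafFor_iff_generate R).mpr (isSheafFor_of_mem_finest hR)

/-- A class of presieves with the sheaf condition, stable under base change, consists of coverings. -/
theorem singleton_mem_finest (P : MorphismProperty Scheme.{u}) [P.IsStableUnderBaseChange]
    (h : ∀ ⦃U V : Scheme.{u}⦄ (f : V ⟶ U), P f → Presieve.IsSheafFor F (Presieve.singleton f))
    {U V : Scheme.{u}} (f : V ⟶ U) (hf : P f) : Sieve.generate (Presieve.singleton f) ∈ K U := by
  intro Y g
  rw [← Sieve.pullbackArrows_comm, ← Presieve.isSheafFor_iff_generate, Presieve.pullback_singleton]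
  exact h _ (MorphismProperty.pullback_snd _ _ hf)

section Local

variable (hF : Presieve.IsSheaf Scheme.zariskiTopology F) (P : ∀ T : Scheme.{u}, Sieve T → Prop)

/-- `R` contains a member of `P` after pullback to any affine scheme. -/
def IsLoc {W : Scheme.{u}} (R : Sieve W) : Prop :=
  ∀ (D : Scheme.{u}) (h : D ⟶ W), IsAffine D → ∃ Q, P D Q ∧ Q ≤ R.pullback h

variable {P}

theorem IsLoc.pullback {W W' : Scheme.{u}} {R : Sieve W} (hR : IsLoc P R) (g : W' ⟶ W) :
    IsLoc P (R.pullback g) := fun D h hD => by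
  obtain ⟨Q, hQ, hle⟩ := hR D (h ≫ g) hD
  exact ⟨Q, hQ, by rwa [← Sieve.pullback_comp]⟩

variable (hsh : ∀ (T : Scheme.{u}) (Q : Sieve T), IsAffine T → P T Q → Presieve.IsSheafFor F Q.arrows)

include hF hsh in
theorem IsLoc.isSeparatedFor {W : Scheme.{u}} {R : Sieve W} (hR : IsLoc P R) :
    Presieve.IsSeparatedFor F R.arrows := by
  intro x t₁ t₂ ht₁ ht₂
  refine (hF.isSheafFor _ (W.affineCover.mem_grothendieckTopology)).isSeparatedFor.ext ?_
  rintro Y f ⟨i⟩
  obtain ⟨Q, hQ, hle⟩ := hR _ (W.affineCover.f i) inferInstance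
  refine (hsh _ Q inferInstance hQ).isSeparatedFor.ext fun Z g hg => ?_
  rw [← Functor.map_comp_apply, ← Functor.map_comp_apply, ← op_comp,
    ht₁ _ (hle _ hg), ht₂ _ (hle _ hg)]

variable (hpb : ∀ (T T' : Scheme.{u}) (Q : Sieve T) (g : T' ⟶ T), IsAffine T → IsAffine T' → P T Q →
  ∃ Q', P T' Q' ∧ Q' ≤ Q.pullback g)

include hF hsh hpb in
theorem IsLoc.isSheafFor {W : Scheme.{u}} {R : Sieve W} (hR : IsLoc P R) : Presieve.IsSheafFor F R.arrows := by
  refine Presieve.isSeparatedFor_and_exists_isAmalgamation_iff_isSheafFor.mp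
    ⟨IsLoc.isSeparatedFor hF hsh hR, fun x hx => ?_⟩
  have aff : ∀ i, Presieve.IsSheafFor F (R.pullback (W.affineCover.f i)).arrows := fun i => by
    obtain ⟨Q, hQ, hle⟩ := hR _ (W.affineCover.f i) inferInstance
    refine Presieve.isSheafFor_subsieve_aux F hle (hsh _ Q inferInstance hQ) fun Y f _ => ?_
    refine IsLoc.isSeparatedFor hF hsh fun D h hD => ?_
    obtain ⟨Q', hQ', hle'⟩ := hpb _ D Q (h ≫ f) inferInstance hD hQ
    exact ⟨Q', hQ', by rwa [← Sieve.pullback_comp]⟩
  let xi : ∀ i, Presieve.FamilyOfElements F (R.pullback (W.affineCover.f i)).arrows :=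
    fun i Y g hg => x (g ≫ W.affineCover.f i) hg
  have hxi : ∀ i, (xi i).Compatible := fun i Y₁ Y₂ Z g₁ g₂ f₁ f₂ h₁ h₂ e =>
    hx g₁ g₂ h₁ h₂ (by rw [← Category.assoc, e, Category.assoc])
  choose y hy _ using fun i => aff i (xi i) (hxi i)
  have hcomp : Presieve.Arrows.Compatible F W.affineCover.f y := by
    intro i j Z gi gj e
    refine (IsLoc.isSeparatedFor hF hsh (hR.pullback (gi ≫ W.affineCover.f i))).ext fun V k hk => ?_
    have hk2 : R.arrows ((k ≫ gj) ≫ W.affineCover.f j) := by rw [Category.assoc, ← e]; exact hk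
    have hk1 : R.arrows ((k ≫ gi) ≫ W.affineCover.f i) := by rw [Category.assoc]; exact hk
    rw [← Functor.map_comp_apply, ← Functor.map_comp_apply, ← op_comp, ← op_comp,
      hy i (k ≫ gi) hk1, hy j (k ≫ gj) hk2]
    show x _ hk1 = x _ hk2
    congr 1
    rw [Category.assoc, Category.assoc, e]
  obtain ⟨t, ht, -⟩ := (Presieve.isSheafFor_arrows_iff _ _).mp
    ((Presieve.isSheafFor_iff_generate _).mpr (hF _ W.affineCover.mem_grothendieckTopology)) y hcomp
  refine ⟨t, fun Y f hf => ?_⟩
  refine (hF _ (Scheme.zariskiTopology.pullback_stable f W.affineCover.mem_grothendieckTopology)).isSeparatedFor.ext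
    fun V k hk => ?_
  obtain ⟨_, g, _, ⟨i⟩, e⟩ := (hk : Sieve.ofArrows _ _ (k ≫ f))
  have hg : R.arrows (g ≫ W.affineCover.f i) := by rw [e]; exact R.downward_closed hf k
  rw [← Functor.map_comp_apply, ← op_comp, ← e, op_comp, Functor.map_comp_apply, ht i, hy i g hg]
  show x _ hg = _
  refine Eq.trans ?_ (Presieve.FamilyOfElements.Compatible.to_sieveCompatible hx f k hf)
  congr 1

include hF hsh hpb in
theorem IsLoc.mem_finest {W : Scheme.{u}} {R : Sieve W} (hR : IsLoc P R) : R ∈ K W :=
  fun _ g => IsLoc.isSheafFor hF hsh hpb (hR.pullback g)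

include hF hsh hpb in
theorem mem_finest_of_mem {T : Scheme.{u}} (hT : IsAffine T) {Q : Sieve T} (hQ : P T Q) : Q ∈ K T :=
  IsLoc.mem_finest hF hsh hpb fun D h hD => hpb T D Q h hT hD hQ

end Local

end Groth.Agent.VCov
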